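import Groth.Agent.Misc4.ProjQCoh
import Groth.Agent.Misc4.QCohDTensor
import Groth.Agent.Misc4.QCohDColim
import Groth.Agent.CohBase.FlatBC.Exact
import Groth.Agent.DerivedCoh.Duality.Braid
import Groth.Agent.QCohMod.PullbackQCoh

/-!
`Rf_*(E ⊗^L G) ⊗^L F ≅ Rf_*(E ⊗^L (G ⊗ f^*F))` for `G` flat over the base.
-/

universe u

open CategoryTheory CategoryTheory.Limits AlgebraicGeometry HomologicalComplex

namespace Groth.DerivedCoh.PerfPush

open Groth.DerivedCoh.KFlat (T IsKFlat tot totL totR tmCx pullCx flatResolution flatResolutionAug)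
open Groth.CohBase.FlatBC (tPull)

attribute [local instance] HasDerivedCategory.standard

variable {X Y : Scheme.{u}}

local notation "up" => ComplexShape.up ℤ

/-- `C ⊗ F[0] ≅ C ⊗ F` -/
noncomputable def totSingleRight (C : CochainComplex X.Modules ℤ) (F : X.Modules) :
    tot (T X) C ((single X.Modules up 0).obj F) ≅ (tmCx F).obj C :=
  (mapBifunctorFlipIso C ((single X.Modules up 0).obj F) (T X) up).symm ≪≫
    KFlat.totSingleIso (T X).flip F C

/-- a complex as an object of `D(O_X)`, up to quasi-isomorphism -/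
noncomputable def qIso {A B : CochainComplex X.Modules ℤ} (s : A ⟶ B) [QuasiIso s] :
    DCoh.toD X A ≅ DCoh.toD X B :=
  @asIso _ _ _ _ (DerivedCategory.Q.map s) ((DerivedCategory.isIso_Q_map_iff_quasiIso _ s).2 ‹_›)

/-- `- ⊗^L F` is `- ⊗^L P` for a K-flat resolution `P` of `F` -/
theorem nonempty_ltm_ltcx (F : X.Modules) [DCoh.HasLTensorMod F] (P : CochainComplex X.Modules ℤ)
    (hP : IsKFlat (T X) P) (s : P ⟶ (single X.Modules up 0).obj F) [QuasiIso s] [DCoh.HasLTensorCx P]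
    (R : DCoh.D X) : Nonempty ((DCoh.LTensorMod F).obj R ≅ (DCoh.LTensorCx P).obj R) := by
  obtain ⟨C₀, ⟨e⟩⟩ := Groth.KTheory.Perf.exists_rep R
  let C := (flatResolution X).obj C₀
  have hC : IsKFlat (T X) C := KFlat.flatResolution_isKFlat C₀
  haveI := KFlat.flatResolution_quasiIso C₀
  let eC : DCoh.toD X C ≅ R := qIso ((flatResolutionAug X).app C₀) ≪≫ e
  haveI : QuasiIso ((totR (T X) C).map s) :=
    KFlat.quasiIso_totR (T X) (Duality.isKFlat_flip hC) s
  exact ⟨(DCoh.LTensorMod F).mapIso eC.symm ≪≫ KFlat.ltmQIso F C hC ≪≫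
    DerivedCategory.Q.mapIso (totSingleRight C F).symm ≪≫ (qIso ((totR (T X) C).map s)).symm ≪≫
    (KFlat.ltcxIso P hP C).symm ≪≫ (DCoh.LTensorCx P).mapIso eC⟩

/-- a K-flat resolution of a module -/
theorem exists_resolution (F : X.Modules) :
    ∃ (P : CochainComplex X.Modules ℤ) (s : P ⟶ (single X.Modules up 0).obj F),
      IsKFlat (T X) P ∧ QuasiIso s :=
  ⟨_, (flatResolutionAug X).app _, KFlat.flatResolution_isKFlat _, KFlat.flatResolution_quasiIso _⟩

lemma isQCohD_of_resolution {F : X.Modules} (hF : Coh.IsQCoh F) {P : CochainComplex X.Modules ℤ}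
    (s : P ⟶ (single X.Modules up 0).obj F) [QuasiIso s] : DCoh.IsQCohD (DCoh.toD X P) :=
  haveI : F.IsQuasicoherent := hF
  Groth.Misc4.QCohDPerf.isQCohD_of_iso
    ((((DerivedCategory.singleFunctorIsoCompQ X.Modules 0).app F)) ≪≫ (qIso s).symm)
    (Groth.Misc4.QCohDColim.isQCohD_single F 0)

lemma isQCohD_LTensorMod (G : X.Modules) [DCoh.HasLTensorMod G] (hG : Coh.IsQCoh G) (E : DCoh.D X)
    (hE : DCoh.IsQCohD E) : DCoh.IsQCohD ((DCoh.LTensorMod G).obj E) := by
  obtain ⟨P, s, hP, hs⟩ := exists_resolution G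
  haveI := KFlat.hasLTensorCx_of_isKFlat P hP
  obtain ⟨a⟩ := nonempty_ltm_ltcx G P hP s E
  exact Groth.Misc4.QCohDPerf.isQCohD_of_iso a.symm
    (Groth.Misc4.QCohDTensor.isQCohD_LTensorCx P (isQCohD_of_resolution hG s) hE)

/-- the projection formula with a flat sheaf -/
theorem nonempty_ltm_Rpush (f : X ⟶ Y) [QuasiCompact f] [QuasiSeparated f] [DCoh.HasRpush f]
    (E : DCoh.D X) (hE : DCoh.IsQCohD E) (G : X.Modules) (hG : Coh.IsQCoh G)
    (hflat : FlatMod.IsFlatOver f G) [DCoh.HasLTensorMod G] (F : Y.Modules) (hF : Coh.IsQCoh F)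
    [DCoh.HasLTensorMod F] [DCoh.HasLTensorMod ((tPull f G).obj F)] :
    Nonempty ((DCoh.LTensorMod F).obj ((DCoh.Rpush f).obj ((DCoh.LTensorMod G).obj E)) ≅
      (DCoh.Rpush f).obj ((DCoh.LTensorMod ((tPull f G).obj F)).obj E)) := by
  obtain ⟨P, s, hP, hs⟩ := exists_resolution F
  have hfP := KFlat.isKFlat_pullCx f P hP
  haveI := KFlat.hasLTensorCx_of_isKFlat P hP
  haveI := KFlat.hasLTensorCx_of_isKFlat _ hfP
  obtain ⟨a⟩ := nonempty_ltm_ltcx F P hP s ((DCoh.Rpush f).obj ((DCoh.LTensorMod G).obj E))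
  obtain ⟨b⟩ := Groth.Misc4.ProjQCoh.nonempty_projection f P hP (isQCohD_of_resolution hF s)
    ((DCoh.LTensorMod G).obj E) (isQCohD_LTensorMod G hG E hE)
  obtain ⟨C₀, ⟨e⟩⟩ := Groth.KTheory.Perf.exists_rep E
  let C := (flatResolution X).obj C₀
  have hC : IsKFlat (T X) C := KFlat.flatResolution_isKFlat C₀
  haveI := KFlat.flatResolution_quasiIso C₀
  let eC : DCoh.toD X C ≅ E := qIso ((flatResolutionAug X).app C₀) ≪≫ e
  let Φ := tPull f G
  obtain ⟨hl, hr⟩ : PreservesFiniteLimits Φ ∧ PreservesFiniteColimits Φ :=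
    ((Functor.exact_tfae Φ).out 1 3).1 fun S hS => Groth.CohBase.FlatBC.exact_tPull f G hflat hS
  let t : tot (T X) ((single X.Modules up 0).obj G) ((pullCx f).obj P) ⟶
      (single X.Modules up 0).obj (Φ.obj F) :=
    (KFlat.totSingleIso (T X) G ((pullCx f).obj P)).hom ≫ (Φ.mapHomologicalComplex up).map s ≫
      ((singleMapHomologicalComplex Φ up 0).hom.app F)
  haveI : QuasiIso ((Φ.mapHomologicalComplex up).map s) := HomologicalComplex.quasiIso_map_of_preservesHomology _ _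
  haveI h₁ : QuasiIso ((singleMapHomologicalComplex Φ up 0).hom.app F) :=
    @quasiIso_of_isIso _ _ _ _ _ _ _ _ ((singleMapHomologicalComplex Φ up 0).app F).isIso_hom _ _
  haveI h₂ : QuasiIso ((Φ.mapHomologicalComplex up).map s ≫ (singleMapHomologicalComplex Φ up 0).hom.app F) :=
    @quasiIso_comp _ _ _ _ _ _ _ _ _ _ _ _ _ ‹_› h₁
  haveI : QuasiIso t := @quasiIso_comp _ _ _ _ _ _ _ _ _ _ _ _ _ inferInstance h₂
  have hCt : QuasiIso ((totR (T X) C).map t) :=
    KFlat.quasiIso_totR (T X) (Duality.isKFlat_flip hC) t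
  let c : (DCoh.LTensorCx ((pullCx f).obj P)).obj ((DCoh.LTensorMod G).obj E) ≅
      (DCoh.LTensorMod ((tPull f G).obj F)).obj E :=
    (DCoh.LTensorCx _).mapIso ((DCoh.LTensorMod G).mapIso eC.symm ≪≫ KFlat.ltmQIso G C hC ≪≫
        DerivedCategory.Q.mapIso (totSingleRight C G).symm) ≪≫
      KFlat.ltcxIso _ hfP _ ≪≫
      DerivedCategory.Q.mapIso (KFlat.totAssoc C ((single X.Modules up 0).obj G) ((pullCx f).obj P)) ≪≫
      @qIso _ _ _ ((totR (T X) C).map t) hCt ≪≫ DerivedCategory.Q.mapIso (totSingleRight C _) ≪≫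
      (KFlat.ltmQIso _ C hC).symm ≪≫ (DCoh.LTensorMod _).mapIso eC
  exact ⟨a ≪≫ b ≪≫ (DCoh.Rpush f).mapIso c⟩

end Groth.DerivedCoh.PerfPush
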