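import Groth.Agent.Misc4.RFBounded
import Groth.Agent.Misc4.RpushCoprod
import Groth.Agent.Misc4.QCohCd
import Groth.Agent.Misc4.QCohDPerf
import Groth.Agent.Misc4.PushRestrict
import Groth.Agent.DerivedCoh.KFlat.RpushComp
import Groth.Agent.KTheory.CohProps
import Groth.Agent.KTheory.LocFree
import Groth.Agent.Misc6.QCohExt
import Groth.Agent.CohFin.BaseLocal
import Groth.Agent.CohFin.ProjFinite
import Groth.Agent.CohC3.ProperSupport
import Groth.Agent.CohC3.SuppHelpers
import Groth.Agent.S0796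
import Groth.Agent.S0792
import Groth.Agent.CohDev.ProperOver
import Groth.Agent.SiteCohomology.ClosedPush

/-!
Derived direct images of bounded coherent objects with proper support.
-/

universe u

open CategoryTheory CategoryTheory.Limits CategoryTheory.Pretriangulated AlgebraicGeometry

attribute [local instance] HasDerivedCategory.standard

namespace Groth.DerivedCoh.PerfPush

open Groth.DerivedCoh.KFlat (pushCx)

variable {X S : Scheme.{u}}

/-- coherent modules with support proper over the base -/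
def cohSupp (f : X ⟶ S) : ObjectProperty X.Modules :=
  fun M => Coh.IsCoh M ∧ ClSub.IsProperOver f (CohB1.support M)

/-- the unit of `Rf_*` -/
noncomputable abbrev βR (f : X ⟶ S) [DCoh.HasRpush f] :=
  (DCoh.pushKh f).totalRightDerivedUnit DerivedCategory.Qh
    (HomotopyCategory.quasiIso X.Modules (ComplexShape.up ℤ))

/-- `Rf_*` is left exact -/
theorem isGE_Rpush (f : X ⟶ S) [DCoh.HasRpush f] (E : DCoh.D X) (a : ℤ) [E.IsGE a] :
    ((DCoh.Rpush f).obj E).IsGE a :=
  Groth.Misc4.RFBounded.isGE_obj (Scheme.Modules.pushforward f) (DCoh.Rpush f) (βR f) E a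

/-- cohomology of `Rf_*` of a module -/
theorem nonempty_hd_single (f : X ⟶ S) [DCoh.HasRpush f] (M : X.Modules) (n i : ℤ) (k : ℕ)
    (hk : n + k = i) :
    Nonempty (DCoh.HD ((DCoh.Rpush f).obj ((DerivedCategory.singleFunctor X.Modules n).obj M)) i ≅
      ((Scheme.Modules.pushforward f).rightDerived k).obj M) :=
  Groth.Misc4.RFBounded.nonempty_homology_single (Scheme.Modules.pushforward f) (DCoh.Rpush f) (βR f)
    M n i k hk

/-- `Rf_*` of a distinguished triangle -/
theorem exists_distinguished (f : X ⟶ S) [DCoh.HasRpush f] (T : Triangle (DCoh.D X))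
    (hT : T ∈ distTriang _) :
    ∃ c, Triangle.mk ((DCoh.Rpush f).map T.mor₁) ((DCoh.Rpush f).map T.mor₂) c ∈ distTriang _ :=
  Groth.DAlg.RFTriangle.exists_distinguished (Scheme.Modules.pushforward f) (DCoh.Rpush f) (βR f) T hT

/-- pushforward along a closed immersion is exact -/
lemma rightAcyclic_closed {Z : Scheme.{u}} (i : Z ⟶ X) [IsClosedImmersion i] (M : Z.Modules) :
    Groth.CohFin.RightAcyclic (Scheme.Modules.pushforward i) M := fun j => by
  have h : ∀ S : ShortComplex Z.Modules, S.ShortExact →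
      (S.map (Scheme.Modules.pushforward i)).ShortExact := fun S hS =>
    Groth.CohC3.shortExact_push_closed i hS
  obtain ⟨h₁, h₂⟩ : PreservesFiniteLimits (Scheme.Modules.pushforward i) ∧
      PreservesFiniteColimits (Scheme.Modules.pushforward i) :=
    ((Scheme.Modules.pushforward i).exact_tfae.out 0 3).1 h
  exact Groth.SiteCohomology.isZero_rightDerived_succ_of_exact _ M j

/-- `Ri_*` of a module for a closed immersion -/
theorem nonempty_Rpush_closed {Z : Scheme.{u}} (i : Z ⟶ X) [IsClosedImmersion i] [DCoh.HasRpush i]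
    (M : Z.Modules) (n : ℤ) :
    Nonempty ((DCoh.Rpush i).obj ((DerivedCategory.singleFunctor Z.Modules n).obj M) ≅
      (DerivedCategory.singleFunctor X.Modules n).obj ((Scheme.Modules.pushforward i).obj M)) := by
  let C := (HomologicalComplex.single Z.Modules (ComplexShape.up ℤ) n).obj M
  haveI : CochainComplex.IsStrictlyGE C n := inferInstanceAs
    (CochainComplex.IsStrictlyGE ((CochainComplex.singleFunctor Z.Modules n).obj M) n)
  haveI := Groth.Misc4.RpushCoprod.isIso_γ_of_acyclic i C n fun k => rightAcyclic_closed i _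
  exact ⟨(DCoh.Rpush i).mapIso ((DerivedCategory.singleFunctorIsoCompQ Z.Modules n).app M) ≪≫
    (asIso ((Groth.Misc4.RpushCoprod.γ i).app C)).symm ≪≫
    DerivedCategory.Q.mapIso
      ((HomologicalComplex.singleMapHomologicalComplex (Scheme.Modules.pushforward i) (ComplexShape.up ℤ) n).app M) ≪≫
    ((DerivedCategory.singleFunctorIsoCompQ X.Modules n).app _).symm⟩

instance isWeakSerre_cohProp [IsLocallyNoetherian X] :
    WSerre.IsWeakSerre (Groth.KTheory.cohProp X) where
  cokernels_le := by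
    rintro K h
    obtain ⟨φ, k, hφ, hX, hY⟩ := h
    exact Groth.QCohMod.isCoh_of_iso ((cokernelIsCokernel φ).coconePointUniqueUpToIso hφ)
      (@Groth.QCohMod.isCoh_cokernel X _ _ φ hX.1 hY)
  prop_X₂_of_shortExact := fun {S} hS h₁ h₃ =>
    haveI := h₁.1
    haveI := h₃.1
    haveI : S.X₂.IsQuasicoherent := Groth.Misc6.isQCoh_of_extension hS
    Groth.QCohMod.isCoh_of_shortExact hS h₁ h₃

instance isWeakSerre_cohSupp (f : X ⟶ S) [LocallyOfFiniteType f] [IsLocallyNoetherian S] :
    WSerre.IsWeakSerre (cohSupp f) :=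
  haveI : IsLocallyNoetherian X := LocallyOfFiniteType.isLocallyNoetherian f
  have closed : ∀ {M : X.Modules}, Coh.IsCoh M → IsClosed (CohB1.support M) :=
    fun hM => Groth.CohC3.isClosed_support_of_isCoh _ hM
  have zero : ∀ {M : X.Modules}, IsZero M → cohSupp f M := fun {M} hM => by
    refine ⟨Groth.KTheory.isCoh_of_isZero hM, ?_⟩
    have h := Groth.Agent.S0791.result f Empty (fun e => e.elim) (fun e => e.elim)
    refine Groth.CohDev.isProperOver_mono f h (closed (Groth.KTheory.isCoh_of_isZero hM)) fun x hx => ?_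
    exact absurd hx ((Groth.CohTwo.notMem_support_iff M x).2
      (AddCommGrpCat.subsingleton_of_isZero ((Groth.QCohMod.stalk x).map_isZero hM)))
  { exists_zero := by
      obtain ⟨Z, hZ⟩ := HasZeroObject.zero (C := X.Modules)
      exact ⟨Z, hZ, zero hZ⟩
    kernels_le := by
      rintro K h
      obtain ⟨φ, k, hφ, hX, hY⟩ := h
      let e := (kernelIsKernel φ).conePointUniqueUpToIso hφ
      have hK := Groth.QCohMod.isCoh_of_iso e
        (@Groth.QCohMod.isCoh_kernel X _ _ _ φ hY.1.1 hX.1)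
      exact ⟨hK, Groth.CohDev.isProperOver_mono f hX.2 (closed hK)
        (Groth.CohTwo.support_subset_of_mono (e.inv ≫ kernel.ι φ))⟩
    cokernels_le := by
      rintro K h
      obtain ⟨φ, k, hφ, hX, hY⟩ := h
      let e := (cokernelIsCokernel φ).coconePointUniqueUpToIso hφ
      have hK := Groth.QCohMod.isCoh_of_iso e
        (@Groth.QCohMod.isCoh_cokernel X _ _ φ hX.1.1 hY.1)
      exact ⟨hK, Groth.CohDev.isProperOver_mono f hY.2 (closed hK)
        (Groth.CohTwo.support_subset_of_epi (cokernel.π φ ≫ e.hom))⟩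
    prop_X₂_of_shortExact := fun {T} hT h₁ h₃ =>
      have h₂ : Coh.IsCoh T.X₂ := (Groth.KTheory.cohProp X).prop_X₂_of_shortExact hT h₁.1 h₃.1
      ⟨h₂, (Groth.Agent.S0796.result f T hT h₁.1 h₂ h₃.1).2 ⟨h₁.2, h₃.2⟩⟩ }

/-- `Rf_*` of a coherent module with proper support is coherent and bounded -/
theorem rpush_single (f : X ⟶ S) [LocallyOfFiniteType f] [IsNoetherian S] [DCoh.HasRpush f]
    (M : X.Modules) (hM : cohSupp f M) (n : ℤ) :
    DCoh.IsCohD ((DCoh.Rpush f).obj ((DerivedCategory.singleFunctor X.Modules n).obj M)) ∧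
      ∃ b : ℤ, ((DCoh.Rpush f).obj ((DerivedCategory.singleFunctor X.Modules n).obj M)).IsLE b := by
  obtain ⟨Z, i, _, _, G, hGq, hGft, ⟨eG⟩⟩ :=
    (Groth.Agent.S0792.result f M hM.1.1 hM.1.2).1 hM.2
  haveI : DCoh.HasRpush i := Groth.Misc4.PushRestrict.hasRightDerived _
  haveI : DCoh.HasRpush (i ≫ f) := Groth.Misc4.PushRestrict.hasRightDerived _
  haveI : IsLocallyNoetherian Z := LocallyOfFiniteType.isLocallyNoetherian (i ≫ f)
  obtain ⟨c⟩ := nonempty_Rpush_closed i G n
  obtain ⟨k⟩ := Groth.DerivedCoh.KFlat.Rpush_comp_iso i f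
  let e : (DCoh.Rpush f).obj ((DerivedCategory.singleFunctor X.Modules n).obj M) ≅
      (DCoh.Rpush (i ≫ f)).obj ((DerivedCategory.singleFunctor Z.Modules n).obj G) :=
    (DCoh.Rpush f).mapIso ((DerivedCategory.singleFunctor X.Modules n).mapIso eG.symm ≪≫ c.symm) ≪≫
      k.app _
  constructor
  · intro q
    refine Groth.QCohMod.isCoh_of_iso ((DerivedCategory.homologyFunctor S.Modules q).mapIso e).symm ?_
    haveI := isGE_Rpush (i ≫ f) ((DerivedCategory.singleFunctor Z.Modules n).obj G) n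
    by_cases hq : q < n
    · exact Groth.KTheory.isCoh_of_isZero (DerivedCategory.isZero_of_isGE _ n q hq)
    · obtain ⟨g⟩ := nonempty_hd_single (i ≫ f) G n q (q - n).toNat (by omega)
      exact Groth.QCohMod.isCoh_of_iso g.symm
        (Groth.CohFin.isCoh_rightDerived_of_proper Groth.CohFin.projFinite (i ≫ f) _ G ⟨hGq, hGft⟩)
  · obtain ⟨N, -, hN⟩ := Groth.Misc4.QCohCd.exists_isZero_HD (i ≫ f)
    refine ⟨n + N, (DerivedCategory.isLE_iff _ _).2 fun q hq => ?_⟩
    refine IsZero.of_iso ?_ ((DerivedCategory.homologyFunctor S.Modules q).mapIso e)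
    refine hN _ (fun j => ?_) n inferInstance q hq
    by_cases hj : j = n
    · subst hj
      exact (Groth.QCohMod.isQCoh_iff_of_iso
        ((DerivedCategory.singleFunctorCompHomologyFunctorIso Z.Modules j).app G)).2 hGq
    · haveI : ((DerivedCategory.singleFunctor Z.Modules n).obj G).IsGE n := inferInstance
      rcases lt_or_gt_of_ne hj with h | h
      · exact Groth.Misc4.QCohDPerf.isQCoh_isZero (DerivedCategory.isZero_of_isGE _ n j h)
      · exact Groth.Misc4.QCohDPerf.isQCoh_isZero (DerivedCategory.isZero_of_isLE _ n j h)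

/-- `Rf_*` of a bounded coherent object with proper support is bounded coherent -/
theorem rpush_bounded (f : X ⟶ S) [LocallyOfFiniteType f] [IsNoetherian S] [DCoh.HasRpush f]
    (E : DCoh.D X) (a b : ℤ) [E.IsGE a] [E.IsLE b] (hE : ∀ i, cohSupp f (DCoh.HD E i)) :
    DCoh.IsCohD ((DCoh.Rpush f).obj E) ∧ ∃ b' : ℤ, ((DCoh.Rpush f).obj E).IsLE b' := by
  refine Groth.DerivedAdj.devissage (cohSupp f)
    (fun Z => DCoh.IsCohD ((DCoh.Rpush f).obj Z) ∧ ∃ b' : ℤ, ((DCoh.Rpush f).obj Z).IsLE b')
    ?_ ?_ ?_ (fun M hM n => rpush_single f M hM n) E a b hE (fun M hM => (cohSupp f).prop_of_isZero hM)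
  · rintro A B e ⟨hA, b', hb⟩
    exact ⟨fun q => Groth.QCohMod.isCoh_of_iso
      ((DerivedCategory.homologyFunctor S.Modules q).mapIso ((DCoh.Rpush f).mapIso e)) (hA q),
      b', DerivedCategory.TStructure.t.isLE_of_iso ((DCoh.Rpush f).mapIso e) b'⟩
  · intro Z hZ
    obtain ⟨c, hc⟩ := exists_distinguished f (contractibleTriangle Z) (contractible_distinguished Z)
    have hR : IsZero ((DCoh.Rpush f).obj Z) := by
      have hz : ∀ q, IsZero (DCoh.HD ((DCoh.Rpush f).obj Z) q) := fun q => by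
        haveI : Z.IsGE (q + 1) := DerivedCategory.TStructure.t.isGE_of_isZero hZ _
        haveI := isGE_Rpush f Z (q + 1)
        exact DerivedCategory.isZero_of_isGE _ (q + 1) q (by omega)
      haveI h₀ : ((DCoh.Rpush f).obj Z).IsLE 0 := (DerivedCategory.isLE_iff _ _).2 fun q _ => hz q
      haveI h₁ : ((DCoh.Rpush f).obj Z).IsGE 1 := (DerivedCategory.isGE_iff _ _).2 fun q _ => hz q
      exact DerivedCategory.TStructure.t.isZero _ 0 1 zero_lt_one
    exact ⟨fun q => Groth.KTheory.isCoh_of_isZero ((DerivedCategory.homologyFunctor _ q).map_isZero hR),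
      0, DerivedCategory.TStructure.t.isLE_of_isZero hR 0⟩
  · rintro T hT ⟨h₁, b₁, hb₁⟩ ⟨h₃, b₃, hb₃⟩
    obtain ⟨c, hc⟩ := exists_distinguished f T hT
    refine ⟨Groth.DerivedAdj.cohIn_obj₂ (Groth.KTheory.cohProp S) _ hc h₁ h₃, max b₁ b₃, ?_⟩
    refine DerivedCategory.TStructure.t.isLE₂ _ hc _ ?_ ?_
    · exact @Triangulated.TStructure.isLE_of_le _ _ _ _ _ _ _ DerivedCategory.TStructure.t _ b₁ _ (le_max_left _ _) hb₁
    · exact @Triangulated.TStructure.isLE_of_le _ _ _ _ _ _ _ DerivedCategory.TStructure.t _ b₃ _ (le_max_right _ _) hb₃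

end Groth.DerivedCoh.PerfPush
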