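import Groth.Agent.DerivedCoh.Duality.Rep
import Groth.Agent.DerivedCoh.ExtZero.Basic
import Groth.Agent.Misc4.PushRestrict
import Groth.Agent.QCohMod.OpenSupport
import Groth.Agent.DerivedCoh.PerfPush.ProperSupp
import Groth.Agent.Calg1.DualSchLocal

/-!
Objects of `D(O_X)` supported in a closed subset of an open `U`: `E ≅ Rj_*(E|_U)`.
-/

universe u

open CategoryTheory CategoryTheory.Limits AlgebraicGeometry HomologicalComplex ZeroObject
open Groth.KTheory.Perf

namespace Groth.DerivedCoh.PerfPush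

attribute [local instance] HasDerivedCategory.standard

variable {X : Scheme.{u}}

local notation "up" => ComplexShape.up ℤ

/-- an object with vanishing cohomology sheaves is zero -/
lemma isZero_of_HD {Z : DCoh.D X} (h : ∀ i, IsZero (DCoh.HD Z i)) : IsZero Z := by
  have h0 : IsIso (0 : (0 : DCoh.D X) ⟶ Z) := by
    rw [DerivedCategory.isIso_iff]
    exact fun i => isIso_of_source_target_iso_zero _
      ((DerivedCategory.homologyFunctor _ i).map_isZero (isZero_zero _)).isoZero (h i).isoZero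
  exact (isZero_zero _).of_iso (asIso (0 : (0 : DCoh.D X) ⟶ Z)).symm

lemma isZero_Rpush {Y : Scheme.{u}} (f : X ⟶ Y) [DCoh.HasRpush f] {Z : DCoh.D X} (hZ : IsZero Z) :
    IsZero ((DCoh.Rpush f).obj Z) :=
  isZero_of_HD fun q => by
    haveI : Z.IsGE (q + 1) := DerivedCategory.TStructure.t.isGE_of_isZero hZ _
    haveI := isGE_Rpush f Z (q + 1)
    exact DerivedCategory.isZero_of_isGE _ (q + 1) q (by omega)

lemma isZero_restrictD {T : Set X} (E : DCoh.D X) (hE : ∀ i, CohB1.support (DCoh.HD E i) ⊆ T)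
    (V : X.Opens) (hV : ∀ x ∈ V, x ∉ T) : IsZero ((DCoh.restrictD V.ι).obj E) :=
  isZero_of_HD fun i => IsZero.of_iso
    ((Groth.QCohMod.isZero_restrict_iff_stalk _ V).2 fun x hx =>
      @AddCommGrpCat.isZero_of_subsingleton _
        ((Groth.CohTwo.notMem_support_iff (DCoh.HD E i) x).1 fun h => hV x hx (hE i h)))
    (nonempty_hdRd V.ι E i).some

/-- `E ≅ Rj_*(E|_U)` for `E` supported in a closed subset of `U` -/
theorem nonempty_iso_Rpush_restrict (U : X.Opens) [DCoh.HasRpush U.ι] (T : Set X) (hT : IsClosed T)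
    (hTU : T ⊆ (U : Set X)) (E : DCoh.D X) (hE : ∀ i, CohB1.support (DCoh.HD E i) ⊆ T) :
    Nonempty (E ≅ (DCoh.Rpush U.ι).obj ((DCoh.restrictD U.ι).obj E)) := by
  open Groth.Misc4.PushRestrict Groth.DerivedCoh.KFlat in
  let j := U.ι
  obtain ⟨F, ⟨e₀⟩⟩ := exists_rep E
  let I := (kres X).obj F
  haveI : I.IsKInjective := inferInstance
  let e : (L₀ X).obj I ≅ E :=
    (@asIso _ _ _ _ ((L₀ X).map ((kresAug X).app F)) (isIso_L₀_map _)).symm ≪≫
      (DerivedCategory.quotientCompQhIso X.Modules).app F ≪≫ e₀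
  haveI : ((resCx j).obj I).IsKInjective := isKInjective_resCx j I
  let η : I ⟶ (pushCx j).obj ((resCx j).obj I) :=
    (NatTrans.mapHomologicalComplex (Scheme.Modules.restrictAdjunction j).unit up).app I
  let p := ((DCoh.pushKh j).totalRightDerivedUnit DerivedCategory.Qh
      (HomotopyCategory.quasiIso _ up)).app ((HomotopyCategory.quotient _ up).obj ((resCx j).obj I))
  haveI : IsIso p := isIso_pushUnit_app j ((resCx j).obj I)
  let c : (DCoh.Rpush j).obj ((DCoh.restrictD j).obj E) ≅ (L₀ X).obj ((pushCx j).obj ((resCx j).obj I)) :=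
    (DCoh.Rpush j).mapIso ((DCoh.restrictD j).mapIso e.symm ≪≫ (restrictDIso j).app I) ≪≫
      (asIso p).symm
  suffices IsIso ((L₀ X).map η) from ⟨e.symm ≪≫ asIso ((L₀ X).map η) ≪≫ c.symm⟩
  apply Duality.isIso_of_local
  intro x
  by_cases hx : x ∈ T
  · refine ⟨U, hTU hx, ?_⟩
    refine (NatIso.isIso_map_iff (restrictDIso U.ι) η).2 ?_
    haveI : IsIso ((resCx U.ι).map η) := by
      have : ∀ i, IsIso (((resCx U.ι).map η).f i) := fun i =>
        inferInstanceAs (IsIso ((Scheme.Modules.restrictFunctor U.ι).map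
          (Groth.QCohMod.openUnit U (I.X i))))
      exact HomologicalComplex.Hom.isIso_of_components _
    exact inferInstanceAs (IsIso ((L₀ _).map ((resCx U.ι).map η)))
  · let V : X.Opens := ⟨Tᶜ, hT.isOpen_compl⟩
    refine ⟨V, hx, ?_⟩
    have hV : ∀ y ∈ V, y ∉ T := fun y hy => hy
    have hs : IsZero ((DCoh.restrictD V.ι).obj ((L₀ X).obj I)) :=
      (isZero_restrictD E hE V hV).of_iso ((DCoh.restrictD V.ι).mapIso e)
    refine isIso_of_source_target_iso_zero _ hs.isoZero (IsZero.isoZero ?_)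
    refine IsZero.of_iso ?_ ((DCoh.restrictD V.ι).mapIso c.symm)
    haveI : DCoh.HasRpush (j ∣_ V) := Groth.Misc4.PushRestrict.hasRightDerived _
    obtain ⟨σ⟩ := Groth.Misc4.PushRestrict.restrictD_Rpush_iso j V
    refine IsZero.of_iso ?_ (σ.app ((DCoh.restrictD j).obj E))
    refine isZero_Rpush (j ∣_ V) (isZero_restrictD (T := j.base ⁻¹' T) _ (fun i => ?_) (j ⁻¹ᵁ V) fun y hy => hV _ hy)
    intro u hu
    by_contra hn
    refine hu ?_
    have hz : IsZero ((Groth.QCohMod.stalk (j u)).obj (DCoh.HD E i)) :=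
      @AddCommGrpCat.isZero_of_subsingleton _
        ((Groth.CohTwo.notMem_support_iff (DCoh.HD E i) (j u)).1 fun h => hn (hE i h))
    exact AddCommGrpCat.subsingleton_of_isZero ((hz.of_iso
      ((Scheme.Modules.restrictStalkNatIso j u).app (DCoh.HD E i))).of_iso
      ((Groth.QCohMod.stalk u).mapIso (nonempty_hdRd j E i).some))

/-- restriction undoes extension by zero -/
theorem nonempty_restrictD_extZeroD (U : X.Opens) [PreservesFiniteLimits (CxOX.extZero U.ι)]
    (F : DCoh.D (U : Scheme.{u})) :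
    Nonempty (F ≅ (DCoh.restrictD U.ι).obj ((CxOX.extZeroD U.ι).obj F)) := by
  obtain ⟨K, ⟨e⟩⟩ := exists_rep F
  let η := (ExtZero.cxAdj (CxOX.extZeroAdj U.ι)).unit.app K
  haveI : ∀ i, IsIso (η.f i) := fun i => ExtZero.isIso_unit U.ι (K.X i)
  haveI : IsIso η := HomologicalComplex.Hom.isIso_of_components _
  exact ⟨e.symm ≪≫ DerivedCategory.Q.mapIso (asIso η) ≪≫ (rdQIso U.ι _).symm ≪≫
    (DCoh.restrictD U.ι).mapIso
      (((CxOX.extZero U.ι).mapDerivedCategoryFactors.app K).symm ≪≫ (CxOX.extZeroD U.ι).mapIso e)⟩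

/-- the support of the cohomology of `j_!F` -/
theorem support_hd_extZeroD (U : X.Opens) [PreservesFiniteLimits (CxOX.extZero U.ι)]
    (F : DCoh.D (U : Scheme.{u})) (i : ℤ) :
    CohB1.support (DCoh.HD ((CxOX.extZeroD U.ι).obj F) i) ⊆
      (fun x : (U : Scheme.{u}) => U.ι.base x) '' CohB1.support (DCoh.HD F i) := by
  intro x hx
  by_cases hxU : x ∈ U
  · refine ⟨⟨x, hxU⟩, fun hs => hx ?_, rfl⟩
    have hz : IsZero ((Groth.QCohMod.stalk (X := (U : Scheme.{u})) ⟨x, hxU⟩).obj (DCoh.HD F i)) :=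
      @AddCommGrpCat.isZero_of_subsingleton _ hs
    let e := (DerivedCategory.homologyFunctor _ i).mapIso (nonempty_restrictD_extZeroD U F).some ≪≫
      (nonempty_hdRd U.ι ((CxOX.extZeroD U.ι).obj F) i).some
    exact AddCommGrpCat.subsingleton_of_isZero ((hz.of_iso
      ((Groth.QCohMod.stalk (X := (U : Scheme.{u})) ⟨x, hxU⟩).mapIso e.symm)).of_iso
      ((Scheme.Modules.restrictStalkNatIso U.ι ⟨x, hxU⟩).app _).symm)
  · refine absurd ?_ hx
    exact AddCommGrpCat.subsingleton_of_isZero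
      ((ExtZero.isZero_stalk_obj U.ι (DCoh.HD F i) (x := x) (by simpa using hxU)).of_iso
        ((Groth.QCohMod.stalk x).mapIso
          (Groth.Calg1.DualSch.nonempty_homology_mapDerivedCategory (CxOX.extZero U.ι) F i).some))

theorem nonempty_extZeroD_iso_Rpush (U : X.Opens) [DCoh.HasRpush U.ι]
    [PreservesFiniteLimits (CxOX.extZero U.ι)] (T : Set X) (hT : IsClosed T) (hTU : T ⊆ (U : Set X))
    (F : DCoh.D (U : Scheme.{u}))
    (hF : ∀ i, (fun x : (U : Scheme.{u}) => U.ι.base x) '' CohB1.support (DCoh.HD F i) ⊆ T) :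
    Nonempty ((CxOX.extZeroD U.ι).obj F ≅ (DCoh.Rpush U.ι).obj F) := by
  obtain ⟨a⟩ := nonempty_iso_Rpush_restrict U T hT hTU ((CxOX.extZeroD U.ι).obj F) fun i =>
    (support_hd_extZeroD U F i).trans (hF i)
  obtain ⟨b⟩ := nonempty_restrictD_extZeroD U F
  exact ⟨a ≪≫ (DCoh.Rpush U.ι).mapIso b.symm⟩

/-- perfectness is local -/
theorem isPerfect_of_local (K : DCoh.D X)
    (h : ∀ x : X, ∃ V : X.Opens, x ∈ V ∧ DCoh.IsPerfect ((DCoh.restrictD V.ι).obj K)) :
    DCoh.IsPerfect K := by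
  rw [isPerfect_iff]
  intro x
  obtain ⟨V, hx, hV⟩ := h x
  obtain ⟨W, hW, E, hE, ⟨e⟩⟩ := (isPerfect_iff _).1 hV ⟨x, hx⟩
  exact ⟨(W.ι ≫ V.ι).opensRange, ⟨⟨⟨x, hx⟩, hW⟩, rfl⟩, perfOn_of_range (W.ι ≫ V.ι) hE
    ((nonempty_rdComp rfl K).some ≪≫ e)⟩

/-- `Rj_*` of a perfect object with support closed in `X` is perfect -/
theorem isPerfect_Rpush_of_support (U : X.Opens) [DCoh.HasRpush U.ι]
    (E : DCoh.D (U : Scheme.{u})) (hE : DCoh.IsPerfect E) (T : Set (U : Scheme.{u}))
    (hjT : IsClosed ((fun x : (U : Scheme.{u}) => U.ι.base x) '' T))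
    (hsupp : ∀ i : ℤ, CohB1.support (DCoh.HD E i) ⊆ T) :
    DCoh.IsPerfect ((DCoh.Rpush U.ι).obj E) := by
  have hTU : (fun x : (U : Scheme.{u}) => U.ι.base x) '' T ⊆ (U : Set X) := by
    rintro _ ⟨y, -, rfl⟩
    exact y.2
  obtain ⟨a⟩ := nonempty_extZeroD_iso_Rpush U _ hjT hTU E fun i => Set.image_mono (hsupp i)
  refine isPerfect_of_iso a (isPerfect_of_local _ fun x => ?_)
  by_cases hx : x ∈ U
  · exact ⟨U, hx, isPerfect_of_iso (nonempty_restrictD_extZeroD U E).some hE⟩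
  · refine ⟨⟨_, hjT.isOpen_compl⟩, fun h => hx (hTU h), isPerfect_of_isZero (isZero_restrictD _
      (fun i => (support_hd_extZeroD U E i).trans (Set.image_mono (hsupp i))) _ fun y hy => hy)⟩

end Groth.DerivedCoh.PerfPush
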