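import Groth.Agent.DerivedCoh.PerfPush.FlatProper
import Groth.Agent.DerivedCoh.PerfPush.OpenSupp
import Groth.Agent.DerivedCoh.KFlat.RpushComp
import Groth.Agent.Flatmor4.FlatModAffine
import Groth.Agent.DerivedCoh.RelAmp

/-!
Reduction to a quasi-compact open containing the support.
-/

universe u

open CategoryTheory CategoryTheory.Limits AlgebraicGeometry HomologicalComplex

namespace Groth.DerivedCoh.PerfPush

open Groth.DerivedCoh.KFlat (T IsKFlat tmCx flatResolution flatResolutionAug)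
open Groth.KTheory.Perf

attribute [local instance] HasDerivedCategory.standard

variable {X S : Scheme.{u}}

/-- proper subsets are proper in an open containing them -/
theorem isProperOver_open (f : X ⟶ S) (U : X.Opens) {Z : Set X} (hZ : ClSub.IsProperOver f Z)
    (hU : Z ⊆ (U : Set X)) : ClSub.IsProperOver (U.ι ≫ f) (U.ι.base ⁻¹' Z) := by
  obtain ⟨hc, hp⟩ := hZ
  have hc' : IsClosed (U.ι.base ⁻¹' Z) := hc.preimage U.ι.base.hom.continuous
  refine ⟨hc', ?_⟩
  let L := Scheme.IdealSheafData.vanishingIdeal (⟨Z, hc⟩ : TopologicalSpace.Closeds X)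
  let K := Scheme.IdealSheafData.vanishingIdeal (⟨_, hc'⟩ : TopologicalSpace.Closeds (U : Scheme.{u}))
  have hLr : Set.range L.subschemeι = Z := by
    rw [Scheme.IdealSheafData.range_subschemeι, Scheme.IdealSheafData.coe_support_vanishingIdeal]
    rfl
  have hrange : Set.range L.subschemeι ⊆ Set.range U.ι := by
    rw [hLr, Scheme.Opens.range_ι]; exact hU
  let l := IsOpenImmersion.lift U.ι L.subschemeι hrange
  have hl : l ≫ U.ι = L.subschemeι := IsOpenImmersion.lift_fac _ _ _
  haveI : IsClosedImmersion (l ≫ U.ι) := by rw [hl]; infer_instance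
  haveI : IsClosedImmersion l := IsClosedImmersion.of_comp l U.ι
  have hle : l.ker ≤ K.subschemeι.ker := by
    rw [Scheme.IdealSheafData.ker_subschemeι, ← Scheme.IdealSheafData.le_support_iff_le_vanishingIdeal]
    intro x (hx : U.ι x ∈ Z)
    rw [← hLr, ← hl] at hx
    obtain ⟨y, hy⟩ := hx
    have : l y = x := U.ι.isOpenEmbedding.injective (by simpa using hy)
    exact this ▸ Scheme.Hom.range_subset_ker_support l ⟨y, rfl⟩
  let j : K.subscheme ⟶ L.subscheme := IsClosedImmersion.lift l K.subschemeι hle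
  have hj : j ≫ l = K.subschemeι := IsClosedImmersion.lift_fac _ _ _
  haveI : IsClosedImmersion (j ≫ l) := by rw [hj]; infer_instance
  haveI : IsClosedImmersion j := IsClosedImmersion.of_comp j l
  haveI : IsProper (L.subschemeι ≫ f) := hp
  show IsProper (K.subschemeι ≫ U.ι ≫ f)
  rw [← hj, Category.assoc, reassoc_of% hl]
  infer_instance

/-- restriction commutes with `- ⊗^L G` -/
theorem nonempty_restrictD_ltm (U : X.Opens) (G : X.Modules) [DCoh.HasLTensorMod G]
    [DCoh.HasLTensorMod ((Scheme.Modules.restrictFunctor U.ι).obj G)] (E : DCoh.D X) :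
    Nonempty ((DCoh.restrictD U.ι).obj ((DCoh.LTensorMod G).obj E) ≅
      (DCoh.LTensorMod ((Scheme.Modules.restrictFunctor U.ι).obj G)).obj ((DCoh.restrictD U.ι).obj E)) := by
  obtain ⟨C₀, ⟨e⟩⟩ := exists_rep E
  let C := (flatResolution X).obj C₀
  have hC : IsKFlat (T X) C := KFlat.flatResolution_isKFlat C₀
  haveI := KFlat.flatResolution_quasiIso C₀
  let eC : DCoh.toD X C ≅ E := qIso ((flatResolutionAug X).app C₀) ≪≫ e
  exact ⟨(Rd U.ι).mapIso ((DCoh.LTensorMod G).mapIso eC.symm ≪≫ KFlat.ltmQIso G C hC) ≪≫ rdQIso U.ι _ ≪≫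
      DerivedCategory.Q.mapIso ((NatIso.mapHomologicalComplex (restrTm U.ι G).symm _).app C) ≪≫
      (KFlat.ltmQIso _ ((Rc U.ι).obj C) (PCoh.isKFlat_rc U.ι hC)).symm ≪≫
      (DCoh.LTensorMod _).mapIso ((rdQIso U.ι C).symm ≪≫ (Rd U.ι).mapIso eC)⟩

/-- perfectness of `Rf_*(E ⊗^L G)` -/
theorem isPerfect_Rpush_ltm' [IsNoetherian S] (f : X ⟶ S) [LocallyOfFiniteType f]
    [DCoh.HasRpush f] (E : DCoh.D X) (hE : DCoh.IsPerfect E) (G : X.Modules) (hG : Coh.IsCoh G)
    (hflat : FlatMod.IsFlatOver f G) (hsupp : ClSub.IsProperOver f (CohB1.support G))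
    [DCoh.HasLTensorMod G] :
    DCoh.IsPerfect ((DCoh.Rpush f).obj ((DCoh.LTensorMod G).obj E)) := by
  have hTc : IsCompact (CohB1.support G) := by
    obtain ⟨hc, hp⟩ := hsupp
    let L := Scheme.IdealSheafData.vanishingIdeal (⟨_, hc⟩ : TopologicalSpace.Closeds X)
    haveI : IsProper (L.subschemeι ≫ f) := hp
    haveI : CompactSpace L.subscheme := QuasiCompact.compactSpace_of_compactSpace (L.subschemeι ≫ f)
    have := isCompact_range L.subschemeι.base.hom.continuous
    rwa [show Set.range (fun y => L.subschemeι.base y) = CohB1.support G by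
      refine (Scheme.IdealSheafData.range_subschemeι L).trans ?_
      exact Scheme.IdealSheafData.coe_support_vanishingIdeal _] at this
  have hcov : ∀ x : X, ∃ V : X.Opens, IsAffineOpen V ∧ x ∈ V := fun x => by
    obtain ⟨V, hV, hx, -⟩ := exists_isAffineOpen_mem_and_subset (x := x) (U := ⊤) trivial
    exact ⟨V, hV, hx⟩
  choose V hV hxV using hcov
  obtain ⟨t, ht⟩ := hTc.elim_finite_subcover (fun x => (V x : Set X)) (fun x => (V x).2)
    (fun x _ => Set.mem_iUnion.2 ⟨x, hxV x⟩)
  let U : X.Opens := t.sup V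
  have hTU : CohB1.support G ⊆ (U : Set X) := fun x hx => by
    obtain ⟨y, hy, hxy⟩ := Set.mem_iUnion₂.1 (ht hx)
    exact (Finset.le_sup (f := V) hy) hxy
  have hUc : IsCompact (U : Set X) := by
    show IsCompact ((t.sup V : X.Opens) : Set X)
    rw [TopologicalSpace.Opens.coe_finset_sup]
    rw [Finset.sup_set_eq_biUnion]
    exact t.finite_toSet.isCompact_biUnion fun y _ => (hV y).isCompact
  haveI : CompactSpace (U : Scheme.{u}) := isCompact_iff_compactSpace.1 hUc
  let G' := (Scheme.Modules.restrictFunctor U.ι).obj G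
  haveI := KFlat.hasLTensorMod G'
  haveI : DCoh.HasRpush U.ι := Groth.Misc4.PushRestrict.hasRightDerived _
  haveI : DCoh.HasRpush (U.ι ≫ f) := Groth.Misc4.PushRestrict.hasRightDerived _
  obtain ⟨a⟩ := nonempty_iso_Rpush_restrict U (CohB1.support G) hsupp.1 hTU
    ((DCoh.LTensorMod G).obj E) fun i => support_hd_ltm G E i
  obtain ⟨b⟩ := nonempty_restrictD_ltm U G E
  obtain ⟨c⟩ := KFlat.Rpush_comp_iso U.ι f
  have hG' : Coh.IsCoh G' := (haveI := hG.1; Groth.QCohMod.isCoh_of_iso
    ((Scheme.Modules.restrictFunctorIsoPullback U.ι).app G).symm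
    ⟨inferInstance, Groth.QCohMod.isFT_pullback U.ι G hG.2⟩)
  refine isPerfect_of_iso ((c.app _).symm ≪≫ (DCoh.Rpush f).mapIso ((DCoh.Rpush U.ι).mapIso b.symm ≪≫ a.symm))
    (isPerfect_Rpush_ltm (U.ι ≫ f) _ ?_ G' hG' ?_ ?_)
  · exact PCohDescent.isPerfect_rd U.ι hE
  · haveI := hG.1
    refine Groth.DerivedCoh.RelAmp.isFlatOver_of_iso
      ((Scheme.Modules.restrictFunctorIsoPullback U.ι).app G).symm fun u => ?_
    exact (Flatmor4.isFlatOverAt_pullback_iff U.ι f G u
      (RingHom.Flat.of_bijective (ConcreteCategory.bijective_of_isIso (U.ι.stalkMap u)))).1 (hflat _)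
  · refine Groth.CohDev.isProperOver_mono _ (isProperOver_open f U hsupp hTU)
      (Groth.CohC3.isClosed_support_of_isCoh _ hG') fun u hu => ?_
    by_contra hn
    refine hu ?_
    have hz : IsZero ((Groth.QCohMod.stalk (U.ι u)).obj G) :=
      @AddCommGrpCat.isZero_of_subsingleton _ ((Groth.CohTwo.notMem_support_iff G (U.ι u)).1 hn)
    exact AddCommGrpCat.subsingleton_of_isZero
      (hz.of_iso ((Scheme.Modules.restrictStalkNatIso U.ι u).app G))

end Groth.DerivedCoh.PerfPush
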