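import Groth.Agent.DerivedCoh.PerfPush.Amp
import Groth.Agent.DerivedCoh.PerfPush.ProperSupp
import Groth.Agent.DerivedCoh.PCohDescent.Main
import Groth.Agent.DerivedCoh.StalkAmp.QCohTest
import Groth.Agent.KTheory.PerfCoh
import Groth.Agent.EulerDeg.Tensor
import Groth.Agent.DerivedCoh.ExtZero.Projection
import Groth.Agent.S1039

/-!
`Rf_*(E ⊗^L G)` is perfect for `G` coherent, flat and with proper support over a Noetherian base.
-/

universe u

open CategoryTheory CategoryTheory.Limits AlgebraicGeometry HomologicalComplex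

namespace Groth.DerivedCoh.PerfPush

open Groth.DerivedCoh.KFlat (T IsKFlat tot totL totR tmCx flatResolution flatResolutionAug)
open Groth.CohBase.FlatBC (tPull)
open Groth.KTheory.Perf

attribute [local instance] HasDerivedCategory.standard

variable {X S : Scheme.{u}}

local notation "up" => ComplexShape.up ℤ

/-- restriction commutes with `- ⊗ G` -/
noncomputable def restrTm {U : Scheme.{u}} (j : U ⟶ X) [IsOpenImmersion j] (G : X.Modules) :
    Scheme.Modules.restrictFunctor j ⋙ DCoh.tensorRightMod ((Scheme.Modules.restrictFunctor j).obj G) ≅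
      DCoh.tensorRightMod G ⋙ Scheme.Modules.restrictFunctor j :=
  NatIso.ofComponents (fun A => ExtZero.restrTensor j A G)
    fun g => ExtZero.restrTensor_left j g G

/-- cohomology of `E ⊗^L G` lives on the support of `G` -/
theorem support_hd_ltm (G : X.Modules) [DCoh.HasLTensorMod G] (E : DCoh.D X) (i : ℤ) :
    CohB1.support (DCoh.HD ((DCoh.LTensorMod G).obj E) i) ⊆ CohB1.support G := by
  intro x hx
  by_contra hxG
  refine hx ?_
  obtain ⟨C₀, ⟨e⟩⟩ := exists_rep E
  let C := (flatResolution X).obj C₀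
  haveI := KFlat.flatResolution_quasiIso C₀
  let eC : DCoh.toD X C ≅ E := qIso ((flatResolutionAug X).app C₀) ≪≫ e
  let c : DCoh.HD ((DCoh.LTensorMod G).obj E) i ≅ ((tmCx G).obj C).homology i :=
    (DerivedCategory.homologyFunctor _ i).mapIso ((DCoh.LTensorMod G).mapIso eC.symm ≪≫
      KFlat.ltmQIso G C (KFlat.flatResolution_isKFlat C₀)) ≪≫ KFlat.hdIso _ i
  have hG : IsZero ((KFlat.stk x).obj G) := by
    haveI := not_not.1 hxG
    exact @ModuleCat.isZero_of_subsingleton _ _ ((KFlat.stk x).obj G) (not_not.1 hxG)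
  have hX : IsZero ((KFlat.stk x).obj ((DCoh.tensorRightMod G).obj (C.X i))) :=
    IsZero.of_iso ((MonoidalCategory.tensorRight ((KFlat.stk x).obj (C.X i))).map_isZero hG)
      ((KFlat.tmStkIso G x).app (C.X i))
  have h0 : IsZero ((KFlat.stk x).obj (((tmCx G).obj C).homology i)) :=
    IsZero.of_iso ((ShortComplex.exact_iff_isZero_homology _).1
      (ShortComplex.exact_of_isZero_X₂ ((((tmCx G).obj C).sc i).map (KFlat.stk x)) hX))
      ((((tmCx G).obj C).sc i).mapHomologyIso (KFlat.stk x)).symm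
  exact AddCommGrpCat.subsingleton_of_isZero ((forget₂ (ModuleCat.{u} (X.presheaf.stalk x)) AddCommGrpCat.{u}).map_isZero
    (h0.of_iso ((KFlat.stk x).mapIso c)))

/-- `E ⊗^L G` has coherent cohomology -/
theorem isCoh_hd_ltm [IsLocallyNoetherian X] (G : X.Modules) (hG : Coh.IsCoh G) [DCoh.HasLTensorMod G]
    (E : DCoh.D X) (hE : DCoh.IsPerfect E) (i : ℤ) :
    Coh.IsCoh (DCoh.HD ((DCoh.LTensorMod G).obj E) i) := by
  obtain ⟨C₀, ⟨e⟩⟩ := exists_rep E
  let C := (flatResolution X).obj C₀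
  have hC : IsKFlat (T X) C := KFlat.flatResolution_isKFlat C₀
  haveI := KFlat.flatResolution_quasiIso C₀
  let eC : DCoh.toD X C ≅ E := qIso ((flatResolutionAug X).app C₀) ≪≫ e
  refine isCoh_of_local fun x => ?_
  obtain ⟨V, hx, P, hP, ⟨eP⟩⟩ := (isPerfect_iff _).1 hE x
  refine ⟨V, hx, ?_⟩
  let G' := (Scheme.Modules.restrictFunctor V.ι).obj G
  haveI := KFlat.hasLTensorMod G'
  have hG' : Coh.IsCoh G' := (haveI := hG.1; Groth.QCohMod.isCoh_of_iso ((Scheme.Modules.restrictFunctorIsoPullback V.ι).app G).symm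
    ⟨inferInstance, Groth.QCohMod.isFT_pullback V.ι G hG.2⟩)
  obtain ⟨⟨a, b, hab⟩, hfl⟩ := hP
  have hPk := KFlat.isKFlat_of_isFlat_of_vanishes P a b hab fun j => PCoh.isFlat_of_isFinLocFree (hfl j)
  let c : (Rd V.ι).obj ((DCoh.LTensorMod G).obj E) ≅ DCoh.toD _ ((tmCx G').obj P) :=
    (Rd V.ι).mapIso ((DCoh.LTensorMod G).mapIso eC.symm ≪≫ KFlat.ltmQIso G C hC) ≪≫ rdQIso V.ι _ ≪≫
      DerivedCategory.Q.mapIso ((NatIso.mapHomologicalComplex (restrTm V.ι G).symm up).app C) ≪≫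
      (KFlat.ltmQIso G' ((Rc V.ι).obj C) (PCoh.isKFlat_rc V.ι hC)).symm ≪≫
      (DCoh.LTensorMod G').mapIso ((rdQIso V.ι C).symm ≪≫ (Rd V.ι).mapIso eC ≪≫ eP) ≪≫
      KFlat.ltmQIso G' P hPk
  exact Groth.QCohMod.isCoh_of_iso
    (((DerivedCategory.homologyFunctor _ i).mapIso c ≪≫ KFlat.hdIso _ i).symm ≪≫
      (nonempty_hdRd V.ι _ i).some) (isCoh_homology (fun j => Groth.EulerDeg.isCoh_tensor
      (Groth.KTheory.LocFree.isCoh (hfl j)) hG') i)

/-- perfectness of `Rf_*(E ⊗^L G)`, quasi-compact source -/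
theorem isPerfect_Rpush_ltm [IsNoetherian S] [CompactSpace X] (f : X ⟶ S) [LocallyOfFiniteType f]
    [DCoh.HasRpush f] (E : DCoh.D X) (hE : DCoh.IsPerfect E) (G : X.Modules) (hG : Coh.IsCoh G)
    (hflat : FlatMod.IsFlatOver f G) (hsupp : ClSub.IsProperOver f (CohB1.support G))
    [DCoh.HasLTensorMod G] :
    DCoh.IsPerfect ((DCoh.Rpush f).obj ((DCoh.LTensorMod G).obj E)) := by
  haveI : IsLocallyNoetherian X := LocallyOfFiniteType.isLocallyNoetherian f
  haveI : IsNoetherian X := {}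
  haveI : QuasiCompact f := QuasiCompact.of_comp f (terminal.from S)
  haveI : QuasiSeparated f := inferInstance
  obtain ⟨a, b, hamp⟩ := PCohDescent.exists_flatAmp_of_isPerfect hE
  have hz : ∀ (M : X.Modules) [DCoh.HasLTensorMod M] (i : ℤ), i < a ∨ b < i →
      IsZero (DCoh.HD ((DCoh.LTensorMod M).obj E) i) := fun M _ i hi => KFlat.torAmp_of_flatAmp hamp M i hi
  have hEq : DCoh.IsQCohD E := fun i => (isCoh_hd_of_isPerfect hE i).1
  obtain ⟨N, hN0, hN⟩ := Groth.Misc4.QCohCd.exists_isZero_HD f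
  let R := (DCoh.Rpush f).obj ((DCoh.LTensorMod G).obj E)
  have hflatR : DCoh.HasFlatAmplitudeIn a (b + N) R := by
    refine StalkAmp.flatAmp_of_qcoh_test R a (b + N) fun F hF _ i hi => ?_
    let H := (tPull f G).obj F
    haveI := KFlat.hasLTensorMod H
    haveI : F.IsQuasicoherent := hF
    haveI : G.IsQuasicoherent := hG.1
    have hH : Coh.IsQCoh H :=
      Groth.QCohMod.isQCoh_tensorMod (M := G) (N := (Scheme.Modules.pullback f).obj F)
    obtain ⟨e⟩ := nonempty_ltm_Rpush f E hEq G hG.1 hflat F hF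
    refine KFlat.isZero_hd_of_iso e ?_
    have hge : ((DCoh.LTensorMod H).obj E).IsGE a :=
      (DerivedCategory.isGE_iff _ _).2 fun q hq => hz H q (.inl hq)
    rcases hi with hi | hi
    · haveI := isGE_Rpush f ((DCoh.LTensorMod H).obj E) a
      exact DerivedCategory.isZero_of_isGE _ a i hi
    · exact hN _ (isQCohD_LTensorMod H hH E hEq) b
        ((DerivedCategory.isLE_iff _ _).2 fun q hq => hz H q (.inr hq)) i hi
  haveI : ((DCoh.LTensorMod G).obj E).IsGE a :=
    (DerivedCategory.isGE_iff _ _).2 fun q hq => hz G q (.inl hq)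
  haveI : ((DCoh.LTensorMod G).obj E).IsLE b :=
    (DerivedCategory.isLE_iff _ _).2 fun q hq => hz G q (.inr hq)
  obtain ⟨hc, b', hb'⟩ := rpush_bounded f ((DCoh.LTensorMod G).obj E) a b fun i =>
    ⟨isCoh_hd_ltm G hG E hE i, Groth.CohDev.isProperOver_mono f hsupp
      (Groth.CohC3.isClosed_support_of_isCoh _ (isCoh_hd_ltm G hG E hE i)) (support_hd_ltm G E i)⟩
  exact PCoh.isPerfect_of_flatAmp hflatR ((Groth.Agent.S1039.result S R (fun i => (hc i).1) (a - 1)).2
    ⟨fun i _ => hc i, b', hb'⟩)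

end Groth.DerivedCoh.PerfPush
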